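import Mathlib

/-!
# Morphisms from `≤ n` objects to `≥ n` objects, and factorization through truncations
-/

set_option autoImplicit false
set_option linter.style.haveILetI false

universe w v u

open CategoryTheory CategoryTheory.Limits CategoryTheory.Pretriangulated

noncomputable section

namespace Groth.Agent.CohDerLim

variable {A : Type u} [Category.{v} A] [Abelian A] [HasDerivedCategory.{w} A]

open DerivedCategory

/-- Naturality of `homologyFunctorFactors`, as a criterion for vanishing. -/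
theorem homologyFunctor_map_Q_eq_zero_iff {K L : CochainComplex A ℤ} (f : K ⟶ L) (i : ℤ) :
    (homologyFunctor A i).map (Q.map f) = 0 ↔ HomologicalComplex.homologyMap f i = 0 := by
  have h := (homologyFunctorFactors A i).hom.naturality f
  dsimp [-HomologicalComplex.homologyFunctor_map] at h
  change _ = _ ≫ HomologicalComplex.homologyMap f i at h
  constructor
  · intro e
    exact (cancel_epi ((homologyFunctorFactors A i).hom.app K)).1
      ((h.symm.trans ((congrArg (· ≫ _) e).trans zero_comp)).trans comp_zero.symm)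
  · intro e
    exact (cancel_mono ((homologyFunctorFactors A i).hom.app L)).1
      ((h.trans ((congrArg (_ ≫ ·) e).trans comp_zero)).trans zero_comp.symm)

/-- A chain map between complexes concentrated on opposite sides of `n` is zero as soon as it is
zero in homology in degree `n`. -/
theorem chainMap_eq_zero {K L : CochainComplex A ℤ} (h : K ⟶ L) (n : ℤ)
    [K.IsStrictlyLE n] [L.IsStrictlyGE n] (hh : HomologicalComplex.homologyMap h n = 0) : h = 0 := by
  ext i
  rcases lt_trichotomy i n with hi | rfl | hi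
  · exact (CochainComplex.isZero_of_isStrictlyGE L n i hi).eq_of_tgt _ _
  · haveI : IsIso (L.homologyπ i) := L.isIso_homologyπ (i - 1) i (by simp)
      ((CochainComplex.isZero_of_isStrictlyGE L i (i - 1) (by omega)).eq_of_src _ _)
    haveI : IsIso (K.iCycles i) := K.isIso_iCycles i (i + 1) (by simp)
      ((CochainComplex.isZero_of_isStrictlyLE K i (i + 1) (by omega)).eq_of_tgt _ _)
    have e : HomologicalComplex.cyclesMap h i = 0 := by
      rw [← cancel_mono (L.homologyπ i), zero_comp, ← HomologicalComplex.homologyπ_naturality, hh,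
        comp_zero]
    rw [← cancel_epi (K.iCycles i), ← HomologicalComplex.cyclesMap_i, e, zero_comp]
    exact comp_zero.symm
  · exact (CochainComplex.isZero_of_isStrictlyLE K n i hi).eq_of_src _ _

/-- A morphism from an object `≤ n` to an object `≥ n` is zero as soon as it is zero on `Hⁿ`. -/
theorem eq_zero_of_homology {X Y : DerivedCategory A} (n : ℤ) [X.IsLE n] [Y.IsGE n] (f : X ⟶ Y)
    (hf : (homologyFunctor A n).map f = 0) : f = 0 := by
  obtain ⟨K, _, ⟨e⟩⟩ := X.exists_iso_Q_obj_of_isLE n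
  obtain ⟨L, _, ⟨e'⟩⟩ := Y.exists_iso_Q_obj_of_isGE n
  obtain ⟨K', _, s, _, g, hg⟩ := right_fac_of_isStrictlyLE (e.inv ≫ f ≫ e'.hom) n
  have hg' : Q.map g = Q.map s ≫ e.inv ≫ f ≫ e'.hom := by rw [hg, IsIso.hom_inv_id_assoc]
  have h0 : g = 0 := chainMap_eq_zero g n ((homologyFunctor_map_Q_eq_zero_iff g n).1 (by
    rw [hg']
    simp only [Functor.map_comp, hf, zero_comp, comp_zero]))
  rw [h0, Functor.map_zero, comp_zero] at hg
  rw [← cancel_epi e.inv, ← cancel_mono e'.hom, comp_zero, zero_comp, Category.assoc]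
  exact hg

/-- A morphism from an object `≤ n` to `L` which is zero on `Hⁿ` factors through `τ_{≤ n-1} L`. -/
theorem exists_factor_truncLE {X : DerivedCategory A} (L : CochainComplex A ℤ) (m n : ℤ)
    (hmn : m + 1 = n) [X.IsLE n] (f : X ⟶ Q.obj L) (hf : (homologyFunctor A n).map f = 0) :
    ∃ φ : X ⟶ Q.obj (L.truncLE m), φ ≫ Q.map (L.ιTruncLE m) = f := by
  have hT := triangleOfSES_distinguished (L.shortComplexTruncLE_shortExact m)
  have hz : f ≫ Q.map (L.πTruncGE n) = 0 := eq_zero_of_homology n _ (by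
    rw [Functor.map_comp, hf, zero_comp])
  have hz' : f ≫ Q.map (L.shortComplexTruncLE m).g ≫
      Q.map (L.shortComplexTruncLEX₃ToTruncGE m n hmn) = 0 :=
    (congrArg (f ≫ ·) ((Q.map_comp _ _).symm.trans (congrArg (fun t => Q.map t)
      (CochainComplex.g_shortComplexTruncLEX₃ToTruncGE L m n hmn)))).trans hz
  have key : ∃ φ : X ⟶ (triangleOfSES (L.shortComplexTruncLE_shortExact m)).obj₁,
      f = φ ≫ (triangleOfSES (L.shortComplexTruncLE_shortExact m)).mor₁ :=
    Triangle.coyoneda_exact₂ _ hT f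
      ((cancel_mono (Q.map (L.shortComplexTruncLEX₃ToTruncGE m n hmn))).1
        ((Category.assoc _ _ _).trans (hz'.trans zero_comp.symm)))
  obtain ⟨φ, hφ⟩ := key
  exact ⟨φ, hφ.symm⟩

/-- Successive factorization through deeper truncations. -/
theorem exists_factor_sequence (K : ℕ ⥤ CochainComplex A ℤ) (n : ℕ)
    (h0 : ∀ i : ℤ, 0 < i → IsZero ((K.obj 0).homology i))
    (hz : ∀ j : ℕ, j < n →
      HomologicalComplex.homologyMap (K.map (homOfLE (Nat.le_succ j))) (-(j : ℤ)) = 0) :
    ∃ φ : Q.obj (K.obj 0) ⟶ Q.obj ((K.obj n).truncLE (-(n : ℤ))),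
      φ ≫ Q.map ((K.obj n).ιTruncLE (-(n : ℤ))) = Q.map (K.map (homOfLE (Nat.zero_le n))) := by
  induction n with
  | zero =>
    haveI : (K.obj 0).IsLE (-((0 : ℕ) : ℤ)) := (CochainComplex.isLE_iff _ _).2 fun i hi =>
      (HomologicalComplex.exactAt_iff_isZero_homology _ _).2 (h0 i (by simpa using hi))
    haveI : IsIso (Q.map ((K.obj 0).ιTruncLE (-((0 : ℕ) : ℤ)))) := inferInstance
    exact ⟨inv (Q.map ((K.obj 0).ιTruncLE (-((0 : ℕ) : ℤ)))), by
      rw [IsIso.inv_hom_id]
      exact ((congrArg (fun t => Q.map t) (K.map_id 0)).trans (Q.map_id _)).symm⟩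
  | succ n ih =>
    obtain ⟨φ, hφ⟩ := ih fun j hj => hz j (Nat.lt_succ_of_lt hj)
    obtain ⟨ψ, hψ⟩ := exists_factor_truncLE (K.obj (n + 1)) (-((n + 1 : ℕ) : ℤ)) (-(n : ℤ))
      (by omega) (Q.map ((K.obj n).ιTruncLE (-(n : ℤ)) ≫ K.map (homOfLE (Nat.le_succ n))))
      ((homologyFunctor_map_Q_eq_zero_iff _ _).2 (by
        rw [HomologicalComplex.homologyMap_comp, hz n (Nat.lt_succ_self n), comp_zero]))
    refine ⟨φ ≫ ψ, ?_⟩
    rw [Category.assoc, hψ, Functor.map_comp, reassoc_of% hφ, ← Q.map_comp, ← K.map_comp,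
      homOfLE_comp]


/-- A morphism from `L` to an object `≥ m` which is zero on `Hᵐ` factors through `τ_{≥ m+1} L`. -/
theorem exists_factor_truncGE {Y : DerivedCategory A} (L : CochainComplex A ℤ) (m n : ℤ)
    (hmn : m + 1 = n) [Y.IsGE m] (f : Q.obj L ⟶ Y) (hf : (homologyFunctor A m).map f = 0) :
    ∃ φ : Q.obj (L.truncGE n) ⟶ Y, Q.map (L.πTruncGE n) ≫ φ = f := by
  have hT := triangleOfSES_distinguished (L.shortComplexTruncLE_shortExact m)
  have hz : Q.map (L.ιTruncLE m) ≫ f = 0 := eq_zero_of_homology m _ (by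
    rw [Functor.map_comp, hf, comp_zero])
  have key : ∃ g : (triangleOfSES (L.shortComplexTruncLE_shortExact m)).obj₃ ⟶ Y,
      f = (triangleOfSES (L.shortComplexTruncLE_shortExact m)).mor₂ ≫ g :=
    Triangle.yoneda_exact₂ _ hT f hz
  obtain ⟨g, hg⟩ := key
  haveI hi : IsIso (Q.map (L.shortComplexTruncLEX₃ToTruncGE m n hmn)) := inferInstance
  refine ⟨@inv _ _ _ _ (Q.map (L.shortComplexTruncLEX₃ToTruncGE m n hmn)) hi ≫ g, ?_⟩
  have e : Q.map (L.πTruncGE n) = Q.map (L.shortComplexTruncLE m).g ≫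
      Q.map (L.shortComplexTruncLEX₃ToTruncGE m n hmn) :=
    (congrArg (fun t => Q.map t)
      (CochainComplex.g_shortComplexTruncLEX₃ToTruncGE L m n hmn)).symm.trans (Q.map_comp _ _)
  refine ((congrArg (· ≫ _) e).trans (Category.assoc _ _ _)).trans ?_
  exact (congrArg (_ ≫ ·) (@IsIso.hom_inv_id_assoc _ _ _ _ _ hi _ g)).trans hg.symm

/-- Successive factorization through coconnective truncations. -/
theorem exists_cofactor_sequence (K : ℕᵒᵖ ⥤ CochainComplex A ℤ) (n : ℕ)
    (h0 : ∀ i : ℤ, i < 0 → IsZero ((K.obj (Opposite.op 0)).homology i))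
    (hz : ∀ j : ℕ, j < n →
      HomologicalComplex.homologyMap (K.map (homOfLE (Nat.le_succ j)).op) (j : ℤ) = 0) :
    ∃ φ : Q.obj ((K.obj (Opposite.op n)).truncGE (n : ℤ)) ⟶ Q.obj (K.obj (Opposite.op 0)),
      Q.map ((K.obj (Opposite.op n)).πTruncGE (n : ℤ)) ≫ φ =
        Q.map (K.map (homOfLE (Nat.zero_le n)).op) := by
  induction n with
  | zero =>
    haveI : (K.obj (Opposite.op 0)).IsGE ((0 : ℕ) : ℤ) := (CochainComplex.isGE_iff _ _).2
      fun i hi => (HomologicalComplex.exactAt_iff_isZero_homology _ _).2 (h0 i (by simpa using hi))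
    exact ⟨inv (Q.map ((K.obj (Opposite.op 0)).πTruncGE ((0 : ℕ) : ℤ))), by
      rw [IsIso.hom_inv_id]
      exact ((congrArg (fun t => Q.map t) (K.map_id _)).trans (Q.map_id _)).symm⟩
  | succ n ih =>
    obtain ⟨φ, hφ⟩ := ih fun j hj => hz j (Nat.lt_succ_of_lt hj)
    obtain ⟨ψ, hψ⟩ := exists_factor_truncGE (K.obj (Opposite.op (n + 1))) (n : ℤ) ((n + 1 : ℕ) : ℤ)
      (by push_cast; rfl)
      (Q.map (K.map (homOfLE (Nat.le_succ n)).op ≫ (K.obj (Opposite.op n)).πTruncGE (n : ℤ)))
      ((homologyFunctor_map_Q_eq_zero_iff _ _).2 (by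
        rw [HomologicalComplex.homologyMap_comp, hz n (Nat.lt_succ_self n), zero_comp]))
    refine ⟨ψ ≫ φ, ?_⟩
    rw [reassoc_of% hψ, Functor.map_comp, Category.assoc, hφ, ← Q.map_comp, ← K.map_comp,
      ← op_comp, homOfLE_comp]

end Groth.Agent.CohDerLim
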