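import Groth.Agent.RlimCrit.Bounded
import Groth.Agent.RlimCrit.Shift

/-!
# Splitting a bounded object when the higher extensions between its cohomology objects vanish
-/

set_option autoImplicit false
set_option linter.style.haveILetI false

universe w v u

open CategoryTheory CategoryTheory.Limits DerivedCategory Pretriangulated

noncomputable section

namespace Groth.Agent.CohDerLim

variable {A : Type u} [Category.{v} A] [Abelian A] [HasDerivedCategory.{w} A]

open RlimCrit

/-- Morphisms between objects placed in single degrees vanish if the extensions do. -/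
theorem subsingleton_hom_sgl (M N : A) (q j p : ℤ) (hp : q = j + p)
    (h : ∀ f : (singleFunctor A 0).obj M ⟶ ((singleFunctor A 0).obj N)⟦p⟧, f = 0) :
    Subsingleton (sgl q M ⟶ (singleFunctor A j).obj N) := by
  let e : ((singleFunctor A j).obj N)⟦q⟧ ≅ ((singleFunctor A 0).obj N)⟦p⟧ :=
    ((singleFunctors A).shiftIso q (-p) j (by omega)).app N ≪≫
      (((singleFunctors A).shiftIso p (-p) 0 (by omega)).app N).symm
  haveI : Subsingleton ((singleFunctor A 0).obj M ⟶ ((singleFunctor A j).obj N)⟦q⟧) :=
    @Equiv.subsingleton _ _ e.homToEquiv (subsingleton_of_forall_eq 0 h)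
  exact (hdu M q ((singleFunctor A j).obj N)).toEquiv.subsingleton

variable (K : DerivedCategory A)

/-- The cohomology object in degree `i` maps to `K` compatibly with `Hⁱ`. -/
theorem exists_lift_single (a i : ℤ) [K.IsGE a] (hai : a ≤ i)
    (h : ∀ (j : ℤ) (p : ℤ), j < i → 2 ≤ p →
      ∀ f : (singleFunctor A 0).obj ((homologyFunctor A i).obj K) ⟶
        ((singleFunctor A 0).obj ((homologyFunctor A j).obj K))⟦p⟧, f = 0) :
    ∃ s : (singleFunctor A i).obj ((homologyFunctor A i).obj K) ⟶ K,
      IsIso ((homologyFunctor A i).map s) := by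
  let t : Triangulated.TStructure (DerivedCategory A) := TStructure.t
  let X₁ := (t.truncLT (i + 1)).obj K
  haveI : IsIso ((homologyFunctor A i).map ((t.truncLTι (i + 1)).app K)) :=
    DCohLib.isIso_homology_truncLTι K (i + 1) i (by omega)
  haveI : X₁.IsLE i := t.isLE_truncLT_obj K (i + 1) i
  haveI hX₁ : X₁.IsGE a := (isGE_iff _ _).2 fun j hj => by
    haveI := DCohLib.isIso_homology_truncLTι K (i + 1) j (by omega)
    exact (isZero_of_isGE K a j hj).of_iso
      (asIso ((homologyFunctor A j).map ((t.truncLTι (i + 1)).app K)))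
  have hT := t.triangleLTGE_distinguished i X₁
  let X₀ := (t.truncLT i).obj X₁
  let X₂ := (t.truncGE i).obj X₁
  haveI : IsIso ((homologyFunctor A i).map ((t.truncGEπ i).app X₁)) :=
    DCohLib.isIso_homology_truncGEπ X₁ i i le_rfl
  haveI : X₂.IsGE i := t.isGE_truncGE_obj X₁ i i
  haveI : X₂.IsLE i := (isLE_iff _ _).2 fun j hj => by
    haveI := DCohLib.isIso_homology_truncGEπ X₁ i j hj.le
    exact (isZero_of_isLE X₁ i j hj).of_iso
      (asIso ((homologyFunctor A j).map ((t.truncGEπ i).app X₁))).symm
  obtain ⟨W, ⟨eW⟩⟩ := exists_iso_singleFunctor_obj_of_isGE_of_isLE X₂ i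
  let eH : W ≅ (homologyFunctor A i).obj K :=
    ((singleFunctorCompHomologyFunctorIso A i).app W).symm ≪≫
      (homologyFunctor A i).mapIso eW.symm ≪≫
        (asIso ((homologyFunctor A i).map ((t.truncGEπ i).app X₁))).symm ≪≫
          asIso ((homologyFunctor A i).map ((t.truncLTι (i + 1)).app K))
  let e : (singleFunctor A i).obj ((homologyFunctor A i).obj K) ≅ X₂ :=
    ((singleFunctor A i).mapIso eH).symm ≪≫ eW.symm
  let M := (homologyFunctor A i).obj K
  haveI : X₀.IsLE (i - 1) := t.isLE_truncLT_obj X₁ i (i - 1)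
  haveI : X₀.IsGE a := (isGE_iff _ _).2 fun j hj => by
    haveI := DCohLib.isIso_homology_truncLTι X₁ i j (by omega)
    exact (isZero_of_isGE X₁ a j hj).of_iso
      (asIso ((homologyFunctor A j).map ((t.truncLTι i).app X₁)))
  have hsub : Subsingleton (sgl i M ⟶ X₀⟦(1 : ℤ)⟧) :=
    subsingleton_hom_shift M i X₀ (subsingleton_hom_of_forall M (i + 1) (i + 2 - a).toNat a
      (by omega) X₀ inferInstance fun j hj _ => by
        by_cases hji : j < i
        · haveI := DCohLib.isIso_homology_truncLTι X₁ i j hji
          haveI := DCohLib.isIso_homology_truncLTι K (i + 1) j (by omega)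
          let eJ : (homologyFunctor A j).obj X₀ ≅ (homologyFunctor A j).obj K :=
            asIso ((homologyFunctor A j).map ((t.truncLTι i).app X₁)) ≪≫
              asIso ((homologyFunctor A j).map ((t.truncLTι (i + 1)).app K))
          exact @Equiv.subsingleton _ _ ((singleFunctor A j).mapIso eJ).homToEquiv
            (subsingleton_hom_sgl M _ (i + 1) j (i + 1 - j) (by omega)
              (h j (i + 1 - j) hji (by omega)))
        · exact ⟨fun f g => ((singleFunctor A j).map_isZero
            (isZero_of_isLE X₀ (i - 1) j (by omega))).eq_of_tgt f g⟩)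
  have key : ∃ g : sgl i M ⟶ X₁, e.hom = g ≫ (t.truncGEπ i).app X₁ :=
    Triangle.coyoneda_exact₃ _ hT e.hom (@Subsingleton.elim _ hsub _ _)
  obtain ⟨g, hg⟩ := key
  haveI : IsIso ((homologyFunctor A i).map g ≫
      (homologyFunctor A i).map ((t.truncGEπ i).app X₁)) := by
    have e2 : (homologyFunctor A i).map e.hom =
        (homologyFunctor A i).map g ≫ (homologyFunctor A i).map ((t.truncGEπ i).app X₁) :=
      (congrArg (fun f => (homologyFunctor A i).map f) hg).trans (Functor.map_comp _ _ _)
    exact e2 ▸ (inferInstance : IsIso ((homologyFunctor A i).map e.hom))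
  haveI : IsIso ((homologyFunctor A i).map g) :=
    IsIso.of_isIso_comp_right _ ((homologyFunctor A i).map ((t.truncGEπ i).app X₁))
  refine ⟨g ≫ (t.truncLTι (i + 1)).app K, ?_⟩
  rw [Functor.map_comp]
  exact inferInstanceAs (IsIso ((homologyFunctor A i).map g ≫
    (homologyFunctor A i).map ((t.truncLTι (i + 1)).app K)))

/-- A bounded object with vanishing higher extensions between its cohomology objects splits. -/
theorem nonempty_iso_biproduct (a b : ℤ) [K.IsGE a] [K.IsLE b]
    (hExt : ∀ (i j : ℤ) (p : ℕ), j < i → 2 ≤ p →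
      ∀ f : (singleFunctor A 0).obj ((homologyFunctor A i).obj K) ⟶
        ((singleFunctor A 0).obj ((homologyFunctor A j).obj K))⟦(p : ℤ)⟧, f = 0)
    [HasBiproduct (fun i : Finset.Icc a b =>
      (singleFunctor A (i : ℤ)).obj ((homologyFunctor A (i : ℤ)).obj K))] :
    Nonempty (K ≅ ⨁ (fun i : Finset.Icc a b =>
      (singleFunctor A (i : ℤ)).obj ((homologyFunctor A (i : ℤ)).obj K))) := by
  classical
  let T : Finset.Icc a b → DerivedCategory A := fun i =>
    (singleFunctor A (i : ℤ)).obj ((homologyFunctor A (i : ℤ)).obj K)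
  choose s hs using fun i : Finset.Icc a b => exists_lift_single K a (i : ℤ)
    (Finset.mem_Icc.1 i.2).1 (fun j p hj hp => by
      obtain ⟨p, rfl⟩ := Int.eq_ofNat_of_zero_le (show 0 ≤ p by omega)
      exact hExt _ j p hj (by exact_mod_cast hp))
  let φ : ⨁ T ⟶ K := biproduct.desc s
  have hz : ∀ (i : Finset.Icc a b) (n : ℤ), n ≠ i → IsZero ((homologyFunctor A n).obj (T i)) :=
    fun i n hn => by
      haveI : (T i).IsLE (i : ℤ) :=
        inferInstanceAs (((singleFunctor A (i : ℤ)).obj _).IsLE (i : ℤ))
      haveI : (T i).IsGE (i : ℤ) :=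
        inferInstanceAs (((singleFunctor A (i : ℤ)).obj _).IsGE (i : ℤ))
      rcases lt_or_gt_of_ne hn with hn | hn
      · exact isZero_of_isGE (T i) i n hn
      · exact isZero_of_isLE (T i) i n hn
  haveI : IsIso φ := (DerivedCategory.isIso_iff A φ).2 fun n => by
    have htot : 𝟙 ((homologyFunctor A n).obj (⨁ T)) = ∑ i, (homologyFunctor A n).map (biproduct.π T i) ≫
        (homologyFunctor A n).map (biproduct.ι T i) := by
      rw [← CategoryTheory.Functor.map_id, ← biproduct.total, Functor.map_sum]
      simp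
    by_cases hn : n ∈ Finset.Icc a b
    · have e : 𝟙 ((homologyFunctor A n).obj (⨁ T)) = (homologyFunctor A n).map (biproduct.π T ⟨n, hn⟩) ≫
          (homologyFunctor A n).map (biproduct.ι T ⟨n, hn⟩) := by
        rw [htot, Finset.sum_eq_single ⟨n, hn⟩]
        · intro i _ hi
          rw [(hz i n (fun h => hi (Subtype.ext h.symm))).eq_of_tgt
            ((homologyFunctor A n).map (biproduct.π T i)) 0, zero_comp]
        · exact fun h => absurd (Finset.mem_univ _) h
      haveI : IsIso ((homologyFunctor A n).map (biproduct.ι T ⟨n, hn⟩)) :=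
        ⟨(homologyFunctor A n).map (biproduct.π T ⟨n, hn⟩),
          by rw [← Functor.map_comp, biproduct.ι_π_self, CategoryTheory.Functor.map_id], e.symm⟩
      haveI : IsIso ((homologyFunctor A n).map (biproduct.ι T ⟨n, hn⟩) ≫
          (homologyFunctor A n).map φ) := by
        rw [← Functor.map_comp, biproduct.ι_desc]
        exact hs ⟨n, hn⟩
      exact IsIso.of_isIso_comp_left ((homologyFunctor A n).map (biproduct.ι T ⟨n, hn⟩)) _
    · have h1 : IsZero ((homologyFunctor A n).obj (⨁ T)) := by
        rw [IsZero.iff_id_eq_zero, htot]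
        refine Finset.sum_eq_zero fun i _ => ?_
        rw [(hz i n (fun h => hn (h ▸ i.2))).eq_of_tgt
          ((homologyFunctor A n).map (biproduct.π T i)) 0, zero_comp]
      have h2 : IsZero ((homologyFunctor A n).obj K) := by
        rw [Finset.mem_Icc, not_and_or, not_le, not_le] at hn
        rcases hn with hn | hn
        · exact isZero_of_isGE K a n hn
        · exact isZero_of_isLE K b n hn
      exact ⟨0, h1.eq_of_src _ _, h2.eq_of_src _ _⟩
  exact ⟨(asIso φ).symm⟩

end Groth.Agent.CohDerLim
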