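import Mathlib

/-!
# Transfinite inverse systems of acyclic complexes

The limit of a well-ordered inverse system of acyclic complexes of abelian groups, in which every
compatible family below an index lifts to that index, is acyclic.
-/

set_option autoImplicit false

universe w

open CategoryTheory CategoryTheory.Limits Opposite

noncomputable section

namespace Groth.Agent.CohDerLim

variable {I : Type w} [LinearOrder I] (K : Iᵒᵖ ⥤ CochainComplex AddCommGrpCat.{w} ℤ)

/-- The transition map. -/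
def tr {γ β : I} (h : γ ≤ β) (n : ℤ) : (K.obj (op β)).X n →+ (K.obj (op γ)).X n :=
  ((K.map (homOfLE h).op).f n).hom

theorem tr_tr {δ γ β : I} (h₁ : δ ≤ γ) (h₂ : γ ≤ β) (n : ℤ) (x : (K.obj (op β)).X n) :
    tr K h₁ n (tr K h₂ n x) = tr K (h₁.trans h₂) n x := by
  simp only [tr]
  rw [← ConcreteCategory.comp_apply, ← HomologicalComplex.comp_f, ← Functor.map_comp]
  rfl

/-- The differential. -/
def dd (β : I) (i j : ℤ) : (K.obj (op β)).X i →+ (K.obj (op β)).X j :=
  ((K.obj (op β)).d i j).hom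

theorem tr_dd {γ β : I} (h : γ ≤ β) (i j : ℤ) (x : (K.obj (op β)).X i) :
    tr K h j (dd K β i j x) = dd K γ i j (tr K h i x) :=
  (ConcreteCategory.congr_hom ((K.map (homOfLE h).op).comm i j) x).symm

theorem dd_dd (β : I) (i j k : ℤ) (x : (K.obj (op β)).X i) :
    dd K β j k (dd K β i j x) = 0 :=
  ConcreteCategory.congr_hom ((K.obj (op β)).d_comp_d i j k) x

/-- Compatible families of cocycles below `β` have compatible primitives. -/
def Below (β : I) : Prop :=
  ∀ (i j k : ℤ), i + 1 = j → j + 1 = k → ∀ x : ∀ γ : I, γ < β → (K.obj (op γ)).X j,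
    (∀ γ γ' (h : γ ≤ γ') (hγ' : γ' < β), tr K h j (x γ' hγ') = x γ (h.trans_lt hγ')) →
    (∀ γ hγ, dd K γ j k (x γ hγ) = 0) →
    ∃ y : ∀ γ : I, γ < β → (K.obj (op γ)).X i,
      (∀ γ γ' (h : γ ≤ γ') (hγ' : γ' < β), tr K h i (y γ' hγ') = y γ (h.trans_lt hγ')) ∧
        ∀ γ hγ, dd K γ i j (y γ hγ) = x γ hγ

variable (hac : ∀ (β : I) (n : ℤ), (K.obj (op β)).ExactAt n)
  (hsurj : ∀ (β : I) (n : ℤ) (x : ∀ γ : {γ : I // γ < β}, (K.obj (op γ.1)).X n),
    (∀ (γ γ' : {γ : I // γ < β}) (h : γ.1 ≤ γ'.1), ((K.map (homOfLE h).op).f n).hom (x γ') = x γ) →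
    ∃ y : (K.obj (op β)).X n, ∀ γ : {γ : I // γ < β}, ((K.map (homOfLE γ.2.le).op).f n).hom y = x γ)

include hac in
theorem exists_prim (β : I) (i j k : ℤ) (hij : i + 1 = j) (hjk : j + 1 = k)
    (x : (K.obj (op β)).X j) (hx : dd K β j k x = 0) : ∃ y, dd K β i j y = x := by
  have h := hac β j
  rw [HomologicalComplex.exactAt_iff' _ i j k (by simp; omega) (by simp; omega),
    ShortComplex.ab_exact_iff] at h
  exact h x hx

include hac hsurj in
theorem step (β : I) (hB : Below K β) (i j k : ℤ) (hij : i + 1 = j) (hjk : j + 1 = k)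
    (x : (K.obj (op β)).X j) (hx : dd K β j k x = 0)
    (y : ∀ γ : I, γ < β → (K.obj (op γ)).X i)
    (hy : ∀ γ γ' (h : γ ≤ γ') (hγ' : γ' < β), tr K h i (y γ' hγ') = y γ (h.trans_lt hγ'))
    (hdy : ∀ γ (hγ : γ < β), dd K γ i j (y γ hγ) = tr K hγ.le j x) :
    ∃ z : (K.obj (op β)).X i, dd K β i j z = x ∧ ∀ γ (hγ : γ < β), tr K hγ.le i z = y γ hγ := by
  obtain ⟨z, hz⟩ := hsurj β i (fun γ => y γ.1 γ.2) (fun γ γ' h => hy γ.1 γ'.1 h γ'.2)
  replace hz : ∀ γ (hγ : γ < β), tr K hγ.le i z = y γ hγ := fun γ hγ => hz ⟨γ, hγ⟩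
  obtain ⟨v, hv⟩ := exists_prim K hac β i j k hij hjk (x - dd K β i j z)
    (by rw [map_sub, hx, dd_dd, sub_zero])
  obtain ⟨u, hu, hdu⟩ := hB (i - 1) i j (by omega) hij (fun γ hγ => tr K hγ.le i v)
    (fun γ γ' h hγ' => tr_tr K h hγ'.le i v)
    (fun γ hγ => by rw [← tr_dd, hv, map_sub, tr_dd K _ i j z, hz γ hγ, hdy γ hγ, sub_self])
  obtain ⟨u', hu'⟩ := hsurj β (i - 1) (fun γ => u γ.1 γ.2) (fun γ γ' h => hu γ.1 γ'.1 h γ'.2)
  replace hu' : ∀ γ (hγ : γ < β), tr K hγ.le (i - 1) u' = u γ hγ := fun γ hγ => hu' ⟨γ, hγ⟩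
  refine ⟨z + (v - dd K β (i - 1) i u'), ?_, fun γ hγ => ?_⟩
  · rw [map_add, map_sub, hv, dd_dd]
    abel
  · rw [map_add, map_sub, hz γ hγ, tr_dd, hu' γ hγ, hdu γ hγ, sub_self, add_zero]

include hac hsurj in
theorem exists_prim_family [WellFoundedLT I] (P : I → Prop) (hP : ∀ γ γ', γ ≤ γ' → P γ' → P γ)
    (hB : ∀ γ, P γ → Below K γ) (i j k : ℤ) (hij : i + 1 = j) (hjk : j + 1 = k)
    (x : ∀ γ : I, P γ → (K.obj (op γ)).X j)
    (hx : ∀ γ γ' (h : γ ≤ γ') (hγ' : P γ'), tr K h j (x γ' hγ') = x γ (hP _ _ h hγ'))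
    (hdx : ∀ γ hγ, dd K γ j k (x γ hγ) = 0) :
    ∃ y : ∀ γ : I, P γ → (K.obj (op γ)).X i,
      (∀ γ γ' (h : γ ≤ γ') (hγ' : P γ'), tr K h i (y γ' hγ') = y γ (hP _ _ h hγ')) ∧
        ∀ γ hγ, dd K γ i j (y γ hγ) = x γ hγ := by
  classical
  let F : ∀ β : I, (∀ γ, γ < β → (P γ → (K.obj (op γ)).X i)) → P β → (K.obj (op β)).X i :=
    fun β ih hβ =>
      if h : ∃ z : (K.obj (op β)).X i, dd K β i j z = x β hβ ∧
          ∀ γ (hγ : γ < β), tr K hγ.le i z = ih γ hγ (hP _ _ hγ.le hβ)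
      then h.choose else 0
  let y : ∀ β : I, P β → (K.obj (op β)).X i := WellFoundedLT.fix F
  have key : ∀ β (hβ : P β), dd K β i j (y β hβ) = x β hβ ∧
      ∀ γ (hγ : γ < β), tr K hγ.le i (y β hβ) = y γ (hP _ _ hγ.le hβ) := by
    intro β
    induction β using WellFoundedLT.induction with
    | _ β ih =>
      intro hβ
      have e : y β = F β (fun γ _ => y γ) := WellFoundedLT.fix_eq F β
      have hz := step K hac hsurj β (hB β hβ) i j k hij hjk (x β hβ) (hdx β hβ)
        (fun γ hγ => y γ (hP _ _ hγ.le hβ))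
        (fun γ γ' h hγ' => by
          rcases h.lt_or_eq with hlt | rfl
          · exact (ih γ' hγ' _).2 γ hlt
          · simp [tr])
        (fun γ hγ => ((ih γ hγ _).1).trans (hx γ β hγ.le hβ).symm)
      rw [e]
      simp only [F, dif_pos hz]
      exact hz.choose_spec
  refine ⟨y, fun γ γ' h hγ' => ?_, fun γ hγ => (key γ hγ).1⟩
  rcases h.lt_or_eq with hlt | rfl
  · exact (key γ' hγ').2 γ hlt
  · simp [tr]

include hac hsurj in
theorem below [WellFoundedLT I] (β : I) : Below K β := by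
  induction β using WellFoundedLT.induction with
  | _ β ih =>
    intro i j k hij hjk x hx hdx
    exact exists_prim_family K hac hsurj (fun γ => γ < β) (fun γ γ' h h' => h.trans_lt h') ih
      i j k hij hjk x hx hdx

include hac hsurj in
theorem exactAt_limit [WellFoundedLT I] (n : ℤ) : (limit K).ExactAt n := by
  rw [HomologicalComplex.exactAt_iff' _ (n - 1) n (n + 1) (by simp) (by simp),
    ShortComplex.ab_exact_iff]
  intro x hx
  obtain ⟨y, hy, hdy⟩ := exists_prim_family K hac hsurj (fun _ => True) (fun _ _ _ _ => trivial)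
    (fun γ _ => below K hac hsurj γ) (n - 1) n (n + 1) (by omega) rfl
    (fun γ _ => ((limit.π K (op γ)).f n).hom x)
    (fun γ γ' h _ => by
      show ((K.map (homOfLE h).op).f n).hom _ = _
      rw [← ConcreteCategory.comp_apply, ← HomologicalComplex.comp_f, limit.w])
    (fun γ _ => by
      have h := ConcreteCategory.congr_hom ((limit.π K (op γ)).comm n (n + 1)) x
      refine h.trans ?_
      exact (congrArg (fun t => ((limit.π K (op γ)).f (n + 1)).hom t) hx).trans (map_zero _))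
  let hlim : ∀ m : ℤ, IsLimit ((HomologicalComplex.eval AddCommGrpCat.{w} (ComplexShape.up ℤ) m ⋙
      forget _).mapCone (limit.cone K)) := fun m => isLimitOfPreserves _ (limit.isLimit K)
  let z := (Types.isLimitEquivSections (hlim (n - 1))).symm
    ⟨fun γ => y γ.unop trivial, fun {γ γ'} f => hy γ'.unop γ.unop (leOfHom f.unop) trivial⟩
  refine ⟨z, Concrete.isLimit_ext _ (isLimitOfPreserves
    (HomologicalComplex.eval AddCommGrpCat.{w} (ComplexShape.up ℤ) n) (limit.isLimit K)) _ _ fun γ => ?_⟩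
  have hz : ((limit.π K γ).f (n - 1)).hom z = y γ.unop trivial :=
    Types.isLimitEquivSections_symm_apply (hlim (n - 1)) _ γ
  refine (ConcreteCategory.congr_hom ((limit.π K γ).comm (n - 1) n) z).symm.trans ?_
  show dd K γ.unop (n - 1) n (((limit.π K γ).f (n - 1)).hom z) = _
  rw [hz]
  exact hdy γ.unop trivial

end Groth.Agent.CohDerLim
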